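import Groth.Prelude.Def_CoactBr
import Groth.Agent.UnipHopfLib.Primitive
import Mathlib.RingTheory.DiscreteValuationRing.Basic
import Mathlib.RingTheory.UniqueFactorizationDomain.Multiplicity

/-!
Smooth models of the additive group in residue characteristic zero: the Hopf algebra side.
-/

set_option autoImplicit false
set_option linter.style.haveILetI false
set_option backward.isDefEq.respectTransparency false
set_option maxHeartbeats 1000000

noncomputable section

universe u

open Polynomial
open scoped TensorProduct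

namespace GaModel

section Field

variable {F : Type u} [Field F] [CharZero F] {A : Type u} [CommRing A] [HopfAlgebra F A]

/-- A nonzero primitive element in characteristic zero is transcendental. -/
theorem aeval_injective {x : A} (hx : CoalgebraStruct.comul (R := F) x = x ⊗ₜ[F] (1 : A) + (1 : A) ⊗ₜ[F] x)
    (hx0 : x ≠ 0) : Function.Injective (aeval x : F[X] →ₐ[F] A) := by
  classical
  haveI : Nontrivial A := ⟨⟨x, 0, hx0⟩⟩
  have hε : Coalgebra.counit (R := F) x = 0 := Groth.Agent.UnipHopf.counit_primitive hx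
  by_contra hni
  rw [injective_iff_map_eq_zero] at hni
  push_neg at hni
  have hex : ∃ d, ∃ P : F[X], P ≠ 0 ∧ aeval x P = 0 ∧ P.natDegree = d := by
    obtain ⟨P, hP, hP0⟩ := hni; exact ⟨_, P, hP0, hP, rfl⟩
  obtain ⟨P, hP0, hP, hd⟩ := Nat.find_spec hex
  set d := Nat.find hex with hd'
  have hmin : ∀ Q : F[X], Q.degree < (d : WithBot ℕ) → aeval x Q = 0 → Q = 0 := fun Q hQ h => by
    by_contra hQ0
    have h1 : Q.natDegree < d := (natDegree_lt_iff_degree_lt hQ0).2 hQ
    exact Nat.find_min hex h1 ⟨Q, hQ0, h, rfl⟩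
  -- a functional
  have hli : LinearIndependent F (fun i : Fin d => x ^ (i : ℕ)) := by
    rw [Fintype.linearIndependent_iff]
    intro g hg i
    let Q : F[X] := ∑ j : Fin d, C (g j) * X ^ (j : ℕ)
    have hQ : Q = 0 := hmin Q (degree_sum_fin_lt _) (by
      simpa [Q, map_sum, Algebra.smul_def] using hg)
    have h := congrArg (fun q : F[X] => q.coeff (i : ℕ)) hQ
    simpa [Q, finsetSum_coeff, coeff_C_mul_X_pow, Fin.val_inj] using h
  rcases Nat.lt_or_ge d 2 with hd2 | hd2
  · have hle : P.natDegree ≤ 1 := by omega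
    rw [eq_X_add_C_of_natDegree_le_one hle, map_add, map_mul, aeval_X, aeval_C, aeval_C] at hP
    have h0 : P.coeff 0 = 0 := by
      have h := congrArg (Bialgebra.counitAlgHom F A) hP
      simpa [hε] using h
    rw [h0, map_zero, add_zero, ← Algebra.smul_def] at hP
    have h1 : P.coeff 1 = 0 := (smul_eq_zero.1 hP).resolve_right hx0
    apply hP0
    rw [eq_X_add_C_of_natDegree_le_one hle, h0, h1]
    simp
  · obtain ⟨ξ, hξ⟩ : ∃ ξ : A →ₗ[F] F, ∀ i : Fin d, ξ (x ^ (i : ℕ)) = if (i : ℕ) = 1 then 1 else 0 := by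
      obtain ⟨ξ, hξ⟩ := (Finsupp.linearCombination F (fun i : Fin d => if (i : ℕ) = 1 then (1 : F) else 0) ∘ₗ hli.repr).exists_extend
      refine ⟨ξ, fun i => ?_⟩
      have h := congr($hξ ⟨x ^ (i : ℕ), Submodule.subset_span ⟨i, rfl⟩⟩)
      rw [LinearMap.comp_apply, LinearMap.comp_apply, hli.repr_eq_single i _ rfl, Finsupp.linearCombination_single, one_smul] at h
      exact h
    let Φ : A ⊗[F] A →ₗ[F] A := (TensorProduct.rid F A).toLinearMap ∘ₗ TensorProduct.map LinearMap.id ξ
    have hΦ : ∀ a b : A, Φ (a ⊗ₜ b) = ξ b • a := fun a b => by simp [Φ]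
    let Q : F[X] := ∑ i ∈ Finset.range (d + 1), ∑ m ∈ Finset.range (i + 1),
      C (P.coeff i * (i.choose m : F) * ξ (x ^ (i - m))) * X ^ m
    have hQ : aeval x Q = 0 := by
      have h := congrArg Φ (congrArg (Bialgebra.comulAlgHom F A) hP)
      rw [aeval_eq_sum_range' (n := d + 1) (by omega)] at h
      simp only [map_sum, map_smul, map_pow, Bialgebra.comulAlgHom_apply, hx, add_pow, map_zero] at h
      rw [← h]
      simp only [Q, map_sum, map_mul, aeval_C, aeval_X_pow]
      refine Finset.sum_congr rfl fun i _ => ?_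
      rw [Finset.smul_sum]
      refine Finset.sum_congr rfl fun m _ => ?_
      simp only [Algebra.TensorProduct.tmul_pow, one_pow, Algebra.TensorProduct.tmul_mul_tmul, mul_one, one_mul]
      rw [← Nat.cast_comm, ← nsmul_eq_mul, map_nsmul, hΦ, ← Algebra.smul_def]
      simp only [Algebra.smul_def, map_natCast, eq_natCast]
      ring
    have hξ0 : ξ (x ^ 0) = 0 := by simpa using hξ ⟨0, by omega⟩
    have hξ1 : ξ (x ^ 1) = 1 := by simpa using hξ ⟨1, by omega⟩
    have hQd : Q.degree < (d : WithBot ℕ) := by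
      rw [degree_lt_iff_coeff_zero]
      intro n hn
      simp only [Q, finsetSum_coeff, coeff_C_mul_X_pow]
      refine Finset.sum_eq_zero fun i hi => Finset.sum_eq_zero fun m hm => ?_
      rw [Finset.mem_range] at hi hm
      split_ifs with hnm
      · rw [show i - m = 0 by omega, hξ0, mul_zero]
      · rfl
    have hQc : Q.coeff (d - 1) = P.coeff d * d := by
      simp only [Q, finsetSum_coeff, coeff_C_mul_X_pow]
      rw [Finset.sum_range_succ, Finset.sum_eq_zero fun i hi => ?_, zero_add,
        Finset.sum_eq_single (d - 1)]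
      · rw [if_pos rfl, show d - (d - 1) = 1 by omega, hξ1, mul_one,
          Nat.choose_symm_of_eq_add (show d = (d - 1) + 1 by omega), Nat.choose_one_right]
      · intro m _ hm; rw [if_neg (fun h => hm h.symm)]
      · intro hm; exact absurd (Finset.mem_range.2 (by omega)) hm
      · rw [Finset.mem_range] at hi
        refine Finset.sum_eq_zero fun m hm => ?_
        rw [Finset.mem_range] at hm
        split_ifs with hnm
        · rw [show i - m = 0 by omega, hξ0, mul_zero]
        · rfl
    rw [hmin Q hQd hQ, coeff_zero] at hQc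
    have hlc : P.coeff d ≠ 0 := by
      rw [← hd]; exact leadingCoeff_ne_zero.2 hP0
    exact mul_ne_zero hlc (Nat.cast_ne_zero.2 (by omega)) hQc.symm

end Field

variable {R : Type u} [CommRing R] [IsDomain R] [IsDiscreteValuationRing R]
  [CharZero (IsLocalRing.ResidueField R)] (K : Type u) [Field K] [Algebra R K] [IsFractionRing R K]
  {C : Type u} [CommRing C] [HopfAlgebra R C] [Module.Flat R C] [Algebra.FiniteType R C]

/-- A smooth model of the additive group has an additive coordinate. -/
theorem exists_coordinate [IsDomain (K ⊗[R] C)] (y : K ⊗[R] C)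
    (hy : CoalgebraStruct.comul (R := K) y = y ⊗ₜ[K] (1 : K ⊗[R] C) + (1 : K ⊗[R] C) ⊗ₜ[K] y)
    (hsurj : Function.Surjective (aeval y : K[X] →ₐ[K] K ⊗[R] C)) (hy0 : y ≠ 0) :
    ∃ x : C, CoalgebraStruct.comul (R := R) x = x ⊗ₜ[R] (1 : C) + (1 : C) ⊗ₜ[R] x ∧
      Function.Bijective (aeval x : R[X] →ₐ[R] C) := by
  let κ : C →ₐ[R] K ⊗[R] C := Algebra.TensorProduct.includeRight
  have hκ : Function.Injective κ := Algebra.TensorProduct.includeRight_injective (IsFractionRing.injective R K)
  haveI : IsDomain C := Function.Injective.isDomain (κ : C →+* K ⊗[R] C) hκ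
  haveI : IsNoetherianRing C := Algebra.FiniteType.isNoetherianRing R C
  -- a multiple in the model
  obtain ⟨r, hr, x₁, hx₁⟩ : ∃ r : R, r ≠ 0 ∧ ∃ x₁ : C, κ x₁ = algebraMap R K r • y := by
    clear hy hsurj hy0
    induction y using TensorProduct.induction_on with
    | zero => exact ⟨1, one_ne_zero, 0, by simp⟩
    | tmul a c =>
      obtain ⟨b, s, hs, rfl⟩ := IsFractionRing.div_surjective (A := R) a
      refine ⟨s, nonZeroDivisors.ne_zero hs, b • c, ?_⟩
      show (1 : K) ⊗ₜ[R] (b • c) = _
      rw [TensorProduct.tmul_smul, TensorProduct.smul_tmul', TensorProduct.smul_tmul', smul_eq_mul,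
        mul_div_cancel₀ _ (by simpa using nonZeroDivisors.ne_zero hs), Algebra.smul_def, mul_one]
    | add p q hp hq =>
      obtain ⟨r, hr, a, ha⟩ := hp
      obtain ⟨s, hs, b, hb⟩ := hq
      refine ⟨r * s, mul_ne_zero hr hs, s • a + r • b, ?_⟩
      rw [map_add, map_smul, map_smul, ha, hb, map_mul, smul_add, ← algebraMap_smul K s, ← algebraMap_smul K r,
        smul_smul, smul_smul, mul_comm (algebraMap R K s)]
  have hrK : algebraMap R K r ≠ 0 := fun h => hr (IsFractionRing.injective R K (by rw [h, map_zero]))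
  obtain ⟨π, hπ⟩ := IsDiscreteValuationRing.exists_irreducible R
  have hx10 : x₁ ≠ 0 := fun h => by
    rw [h, map_zero] at hx₁
    exact smul_ne_zero hrK hy0 hx₁.symm
  have hπC : ¬IsUnit (algebraMap R C π) := fun h => hπ.not_isUnit (by
    simpa using h.map (Bialgebra.counitAlgHom R C))
  have hπ0 : algebraMap R C π ≠ 0 := fun h => hπ.ne_zero (by
    simpa using congrArg (Bialgebra.counitAlgHom R C) h)
  obtain ⟨n, ⟨x, hx⟩, hn⟩ : ∃ n, algebraMap R C π ^ n ∣ x₁ ∧ ¬algebraMap R C π ^ (n + 1) ∣ x₁ := by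
    have h := FiniteMultiplicity.of_not_isUnit hπC hx10
    exact ⟨multiplicity (algebraMap R C π) x₁, pow_multiplicity_dvd _ _,
      h.not_pow_dvd_of_multiplicity_lt (Nat.lt_succ_self _)⟩
  have hxπ : ¬algebraMap R C π ∣ x := fun ⟨z, hz⟩ => hn ⟨z, by rw [hx, hz, pow_succ, mul_assoc]⟩
  have hκx : κ x = (algebraMap R K r / algebraMap R K π ^ n) • y := by
    have hπK : algebraMap R K π ^ n ≠ 0 := pow_ne_zero _ fun h => hπ.ne_zero (IsFractionRing.injective R K (by rw [h, map_zero]))
    have h := hx₁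
    rw [hx, map_mul, map_pow, AlgHom.commutes, IsScalarTower.algebraMap_apply R K (K ⊗[R] C), ← map_pow,
      ← Algebra.smul_def] at h
    rw [div_eq_inv_mul, ← smul_smul, ← h, smul_smul, inv_mul_cancel₀ hπK, one_smul]
  set u := algebraMap R K r / algebraMap R K π ^ n
  have hu : u ≠ 0 := div_ne_zero hrK (pow_ne_zero _ fun h => hπ.ne_zero (IsFractionRing.injective R K (by rw [h, map_zero])))
  -- primitivity
  have hprim : CoalgebraStruct.comul (R := R) x = x ⊗ₜ[R] (1 : C) + (1 : C) ⊗ₜ[R] x := by
    let τ : C ⊗[R] C →ₐ[R] K ⊗[R] (C ⊗[R] C) := Algebra.TensorProduct.includeRight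
    have hτ : Function.Injective τ := Algebra.TensorProduct.includeRight_injective (IsFractionRing.injective R K)
    let θ : K ⊗[R] (C ⊗[R] C) →ₐ[K] (K ⊗[R] C) ⊗[K] (K ⊗[R] C) :=
      Algebra.TensorProduct.lift (Algebra.ofId K _)
        (Algebra.TensorProduct.lift
          ((Algebra.TensorProduct.includeLeft (R := K) (S := K)).restrictScalars R |>.comp κ)
          ((Algebra.TensorProduct.includeRight (R := K)).restrictScalars R |>.comp κ) fun _ _ => Commute.all _ _)
        fun _ _ => Commute.all _ _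
    let θ' : (K ⊗[R] C) ⊗[K] (K ⊗[R] C) →ₐ[K] K ⊗[R] (C ⊗[R] C) :=
      Algebra.TensorProduct.lift (Algebra.TensorProduct.map (AlgHom.id K K) Algebra.TensorProduct.includeLeft)
        (Algebra.TensorProduct.map (AlgHom.id K K) Algebra.TensorProduct.includeRight) fun _ _ => Commute.all _ _
    have hθ : θ'.comp θ = AlgHom.id K _ := by
      ext <;> simp [θ, θ', κ, Algebra.TensorProduct.tmul_mul_tmul]
    have hθi : Function.Injective θ := fun a b h => by
      have := congrArg θ' h
      rwa [← AlgHom.comp_apply, ← AlgHom.comp_apply, hθ] at this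
    apply hτ
    apply hθi
    have hc : ∀ c : C, θ (τ (CoalgebraStruct.comul (R := R) c)) = CoalgebraStruct.comul (R := K) (κ c) := fun c => by
      show _ = CoalgebraStruct.comul (R := K) ((1 : K) ⊗ₜ[R] c)
      rw [TensorProduct.comul_tmul, CommSemiring.comul_apply]
      generalize CoalgebraStruct.comul (R := R) c = z
      induction z using TensorProduct.induction_on with
      | zero => simp
      | add a b ha hb => simp only [map_add, TensorProduct.tmul_add, ha, hb]
      | tmul a b => simp [θ, τ, κ, Algebra.TensorProduct.tmul_mul_tmul]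
    rw [hc, hκx, map_smul, hy, smul_add, TensorProduct.smul_tmul', ← TensorProduct.tmul_smul, ← hκx, map_add, map_add]
    simp [θ, τ, κ, Algebra.TensorProduct.tmul_mul_tmul, Algebra.TensorProduct.one_def]
  -- reduction
  let k := IsLocalRing.ResidueField R
  have hxk : ((1 : k) ⊗ₜ[R] x : k ⊗[R] C) ≠ 0 := fun h => hxπ (by
    let m := Ideal.map (algebraMap R C) (IsLocalRing.maximalIdeal R)
    let L : k ⊗[R] C →ₐ[R] C ⧸ m := Algebra.TensorProduct.lift
      (Ideal.Quotient.liftₐ _ (Algebra.ofId R (C ⧸ m)) fun a ha => by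
        show algebraMap R (C ⧸ m) a = 0
        rw [← Ideal.Quotient.mk_algebraMap, Ideal.Quotient.eq_zero_iff_mem]
        exact Ideal.mem_map_of_mem _ ha)
      (Ideal.Quotient.mkₐ R m) fun _ _ => Commute.all _ _
    have h' : L ((1 : k) ⊗ₜ[R] x) = L 0 := congrArg L h
    simp only [L, Algebra.TensorProduct.lift_tmul, map_one, one_mul, map_zero, Ideal.Quotient.mkₐ_eq_mk] at h'
    rw [Ideal.Quotient.eq_zero_iff_mem] at h'
    rw [show m = Ideal.span {algebraMap R C π} by
      show Ideal.map _ _ = _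
      rw [hπ.maximalIdeal_eq, Ideal.map_span, Set.image_singleton]] at h'
    exact Ideal.mem_span_singleton.1 h')
  have hinjk := aeval_injective (F := k) (x := (1 : k) ⊗ₜ[R] x) (by
    rw [TensorProduct.comul_tmul, CommSemiring.comul_apply, hprim]
    simp [TensorProduct.tmul_add, Algebra.TensorProduct.one_def]) hxk
  have hdiv : ∀ Q : R[X], (∃ z, aeval x Q = algebraMap R C π * z) → ∃ Q', Q = Polynomial.C π * Q' := by
    rintro Q ⟨z, hz⟩
    have h : Q.map (IsLocalRing.residue R) = 0 := hinjk (by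
      rw [map_zero]
      show aeval ((1 : k) ⊗ₜ[R] x) (Q.map (algebraMap R k)) = 0
      rw [aeval_map_algebraMap, show ((1 : k) ⊗ₜ[R] x : k ⊗[R] C) =
        (Algebra.TensorProduct.includeRight : C →ₐ[R] k ⊗[R] C) x from rfl, aeval_algHom_apply, hz, map_mul,
        AlgHom.commutes, IsScalarTower.algebraMap_apply R k (k ⊗[R] C),
        show algebraMap R k π = 0 from (IsLocalRing.residue_eq_zero_iff _).2 hπ.not_isUnit, map_zero, zero_mul])
    exact (Polynomial.C_dvd_iff_dvd_coeff π Q).2 fun i => by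
      have h' := congrArg (fun p => p.coeff i) h
      simp only [coeff_map, coeff_zero, IsLocalRing.residue_eq_zero_iff] at h'
      rw [hπ.maximalIdeal_eq, Ideal.mem_span_singleton] at h'
      exact h'
  refine ⟨x, hprim, ?_, ?_⟩
  · rw [injective_iff_map_eq_zero]
    intro P hP
    have hall : ∀ m : ℕ, ∃ Q, P = Polynomial.C π ^ m * Q ∧ aeval x Q = 0 := fun m => by
      induction m with
      | zero => exact ⟨P, by simp, hP⟩
      | succ m ih =>
        obtain ⟨Q, hQ, hQ0⟩ := ih
        obtain ⟨Q', rfl⟩ := hdiv Q ⟨0, by rw [hQ0, mul_zero]⟩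
        refine ⟨Q', by rw [hQ, pow_succ, mul_assoc], ?_⟩
        rw [map_mul, aeval_C] at hQ0
        exact (mul_eq_zero.1 hQ0).resolve_left hπ0
    ext i
    refine Classical.by_contradiction fun hi => ?_
    obtain ⟨m, hm⟩ : ∃ m, ¬π ^ m ∣ P.coeff i :=
      (FiniteMultiplicity.of_not_isUnit hπ.not_isUnit (by simpa using hi)).elim fun m hm => ⟨m + 1, hm⟩
    obtain ⟨Q, hQ, -⟩ := hall m
    exact hm ⟨Q.coeff i, by rw [hQ, ← map_pow, coeff_C_mul]⟩
  · intro c
    obtain ⟨P, hP⟩ := hsurj (κ c)
    let P' := P.comp (Polynomial.C u⁻¹ * X)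
    have hP' : aeval (κ x) P' = κ c := by
      rw [aeval_comp, map_mul, aeval_C, aeval_X, hκx, ← Algebra.smul_def, smul_smul, inv_mul_cancel₀ hu, one_smul, hP]
    obtain ⟨b, hb⟩ := IsLocalization.integerNormalization_map_to_map (nonZeroDivisors R) P'
    obtain ⟨N, w, hw⟩ := IsDiscreteValuationRing.eq_unit_mul_pow_irreducible (nonZeroDivisors.ne_zero b.2) hπ
    have hbc : aeval x (IsLocalization.integerNormalization (nonZeroDivisors R) P') = (b : R) • c := by
      apply hκ
      rw [map_smul, ← aeval_algHom_apply, ← aeval_map_algebraMap K, hb, ← hP']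
      exact LinearMap.map_smul_of_tower (aeval (κ x) : K[X] →ₐ[K] _).toLinearMap _ _
    have hdesc : ∀ (N : ℕ) (Q : R[X]) (c : C), aeval x Q = algebraMap R C π ^ N * c → ∃ Q' : R[X], aeval x Q' = c := by
      intro N
      induction N with
      | zero => exact fun Q c h => ⟨Q, by rw [h, pow_zero, one_mul]⟩
      | succ N ih =>
        intro Q c h
        obtain ⟨Q', rfl⟩ := hdiv Q ⟨algebraMap R C π ^ N * c, by rw [h, pow_succ']; ring⟩
        refine ih Q' c (mul_left_cancel₀ hπ0 ?_)
        rw [← mul_assoc, ← pow_succ', ← h, map_mul, aeval_C]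
    obtain ⟨Q', hQ'⟩ := hdesc N (Polynomial.C (↑w⁻¹ : R) * IsLocalization.integerNormalization (nonZeroDivisors R) P') c (by
      rw [map_mul, aeval_C, hbc, ← Algebra.smul_def, smul_smul, hw, ← mul_assoc, Units.inv_mul, one_mul,
        Algebra.smul_def, map_pow])
    exact ⟨Q', hQ'⟩

end GaModel

end
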